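import Mathlib
import Groth.Agent.Hensel.Pair
import Groth.Agent.WEtale.Olivier

/-!
# Finite extensions of complete discrete valuation rings
-/

set_option autoImplicit false
set_option linter.unusedSectionVars false
set_option linter.style.haveILetI false

namespace Groth.Agent.CompleteExt

open IsLocalRing

universe u

variable (A B : Type u) [CommRing A] [IsDomain A] [IsDiscreteValuationRing A]
  [IsAdicComplete (maximalIdeal A) A] [CommRing B] [IsDedekindDomain B] [Algebra A B]
  [Module.Finite A B] [Module.IsTorsionFree A B]

theorem localRing (A B : Type u) [CommRing A] [IsDomain A] [IsDiscreteValuationRing A]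
    [IsAdicComplete (maximalIdeal A) A] [CommRing B] [IsDedekindDomain B] [Algebra A B]
    [Module.Finite A B] : IsLocalRing B :=
  haveI : HenselianLocalRing A :=
    Groth.Agent.Hensel.henselianLocalRing_of_henselianRing inferInstance
  WEtale.Olivier.isLocalRing_of_finite (A := A)

theorem primesOver_eq (M : Ideal B) [M.IsMaximal] : (maximalIdeal A).primesOver B = {M} := by
  haveI := localRing A B
  ext P
  simp only [Set.mem_singleton_iff]
  constructor
  · rintro ⟨hP, hPo⟩
    haveI := hP
    haveI := hPo
    haveI : P.IsMaximal := Ideal.IsMaximal.of_liesOver_isMaximal P (maximalIdeal A)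
    rw [IsLocalRing.eq_maximalIdeal ‹P.IsMaximal›, IsLocalRing.eq_maximalIdeal ‹M.IsMaximal›]
  · rintro rfl
    exact ⟨inferInstance,
      ⟨(IsLocalRing.eq_maximalIdeal (Ideal.isMaximal_comap_of_isIntegral_of_isMaximal P)).symm⟩⟩

theorem liesOver (M : Ideal B) [M.IsMaximal] : M.LiesOver (maximalIdeal A) :=
  ((primesOver_eq A B M).symm ▸ Set.mem_singleton M : M ∈ (maximalIdeal A).primesOver B).2

theorem map_maximalIdeal (M : Ideal B) [M.IsMaximal] :
    (maximalIdeal A).map (algebraMap A B) = M ^ M.ramificationIdx A := by
  rw [Ideal.map_algebraMap_eq_finsetProd_pow (IsDiscreteValuationRing.not_a_field A),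
    show ((maximalIdeal A).primesOver B).toFinset = {M} by
      ext P; rw [Set.mem_toFinset, primesOver_eq A B M, Finset.mem_singleton, Set.mem_singleton_iff],
    Finset.prod_singleton]

theorem ramification_mul_inertia (M : Ideal B) [M.IsMaximal] :
    M.ramificationIdx A * M.inertiaDeg A = Module.finrank A B := by
  classical
  letI : Unique ((maximalIdeal A).primesOver B) :=
    ⟨⟨⟨M, by rw [primesOver_eq A B M]; rfl⟩⟩, fun P => Subtype.ext (by
      exact Set.mem_singleton_iff.1 ((primesOver_eq A B M).subset P.2))⟩
  rw [← Ideal.sum_ramification_inertia_eq_finrank (p := maximalIdeal A) (S := B)]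
  exact (Fintype.sum_unique (fun q : (maximalIdeal A).primesOver B =>
    q.1.ramificationIdx A * q.1.inertiaDeg A)).symm

end Groth.Agent.CompleteExt
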